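import Mathlib

/-! The square-zero extension of `C` by `C ⊗[B] Ω[B⁄A]` with `B` acting through the universal derivation. -/

universe u

open TensorProduct

namespace Groth.Agent.FSRelLib

variable (A B C : Type u) [CommRing A] [CommRing B] [CommRing C] [Algebra A B] [Algebra B C]

/-- The carrier. -/
def Twist : Type u := TrivSqZeroExt C (C ⊗[B] Ω[B⁄A])

noncomputable instance : CommRing (Twist A B C) :=
  inferInstanceAs (CommRing (TrivSqZeroExt C (C ⊗[B] Ω[B⁄A])))

/-- The projection to `C`. -/
noncomputable def Twist.toBase : Twist A B C →+* C :=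
  (TrivSqZeroExt.fstHom C C (C ⊗[B] Ω[B⁄A])).toRingHom

/-- The `C`-section. -/
noncomputable def Twist.inl : C →+* Twist A B C := TrivSqZeroExt.inlHom C (C ⊗[B] Ω[B⁄A])

variable {A B C}

/-- The second coordinate. -/
noncomputable def Twist.snd (x : Twist A B C) : C ⊗[B] Ω[B⁄A] := TrivSqZeroExt.snd x

theorem Twist.ext {x y : Twist A B C} (h1 : Twist.toBase A B C x = Twist.toBase A B C y) (h2 : x.snd = y.snd) :
    x = y :=
  TrivSqZeroExt.ext h1 h2

theorem Twist.snd_add (x y : Twist A B C) : (x + y).snd = x.snd + y.snd := rfl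

theorem Twist.snd_mul (x y : Twist A B C) :
    (x * y).snd = Twist.toBase A B C x • y.snd + Twist.toBase A B C y • x.snd := by
  show TrivSqZeroExt.snd (show TrivSqZeroExt C (C ⊗[B] Ω[B⁄A]) from x * y) = _
  refine (TrivSqZeroExt.snd_mul (R := C) (M := C ⊗[B] Ω[B⁄A]) x y).trans ?_
  rw [op_smul_eq_smul]
  rfl

/-- Constructor. -/
noncomputable def Twist.mk (c : C) (n : C ⊗[B] Ω[B⁄A]) : Twist A B C := ((c, n) : TrivSqZeroExt C (C ⊗[B] Ω[B⁄A]))

theorem Twist.toBase_mk (c : C) (n : C ⊗[B] Ω[B⁄A]) : Twist.toBase A B C (Twist.mk c n) = c := rfl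

theorem Twist.snd_mk (c : C) (n : C ⊗[B] Ω[B⁄A]) : (Twist.mk c n).snd = n := rfl

theorem Twist.snd_one : (1 : Twist A B C).snd = 0 := rfl

theorem Twist.snd_zero : (0 : Twist A B C).snd = 0 := rfl

variable (A B C)

/-- The twisted structure map of `B`. -/
noncomputable def Twist.baseHom : B →+* Twist A B C where
  toFun b := Twist.mk (algebraMap B C b) ((1 : C) ⊗ₜ KaehlerDifferential.D A B b)
  map_one' := by
    refine Twist.ext ?_ ?_
    · rw [Twist.toBase_mk, map_one, map_one]
    · rw [Twist.snd_mk, Twist.snd_one, Derivation.map_one_eq_zero, TensorProduct.tmul_zero]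
  map_mul' b c := by
    refine Twist.ext ?_ ?_
    · rw [map_mul (Twist.toBase A B C), Twist.toBase_mk, Twist.toBase_mk, Twist.toBase_mk, map_mul]
    · rw [Twist.snd_mul, Twist.toBase_mk, Twist.toBase_mk, Twist.snd_mk, Twist.snd_mk, Twist.snd_mk,
        Derivation.leibniz, TensorProduct.tmul_add, TensorProduct.tmul_smul, TensorProduct.tmul_smul,
        algebraMap_smul, algebraMap_smul]
  map_zero' := by
    refine Twist.ext ?_ ?_
    · rw [Twist.toBase_mk, map_zero, map_zero]
    · rw [Twist.snd_mk, Twist.snd_zero, map_zero, TensorProduct.tmul_zero]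
  map_add' b c := by
    refine Twist.ext ?_ ?_
    · rw [map_add (Twist.toBase A B C), Twist.toBase_mk, Twist.toBase_mk, Twist.toBase_mk, map_add]
    · rw [Twist.snd_add, Twist.snd_mk, Twist.snd_mk, Twist.snd_mk, map_add, TensorProduct.tmul_add]

noncomputable instance : Algebra B (Twist A B C) := (Twist.baseHom A B C).toAlgebra

noncomputable instance : Algebra A (Twist A B C) :=
  ((Twist.baseHom A B C).comp (algebraMap A B)).toAlgebra

instance : IsScalarTower A B (Twist A B C) := IsScalarTower.of_algebraMap_eq' rfl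

variable {A B C}

theorem Twist.toBase_algebraMap (b : B) :
    Twist.toBase A B C (algebraMap B (Twist A B C) b) = algebraMap B C b := Twist.toBase_mk _ _

theorem Twist.snd_algebraMap (b : B) :
    (algebraMap B (Twist A B C) b).snd = (1 : C) ⊗ₜ KaehlerDifferential.D A B b := Twist.snd_mk _ _

theorem Twist.toBase_inl (c : C) : Twist.toBase A B C (Twist.inl A B C c) = c := rfl

theorem Twist.snd_inl (c : C) : (Twist.inl A B C c).snd = 0 := rfl

theorem Twist.ker_sq : RingHom.ker (Twist.toBase A B C) ^ 2 = ⊥ := by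
  rw [eq_bot_iff, sq, Ideal.mul_le]
  intro x hx y hy
  rw [RingHom.mem_ker] at hx hy
  rw [Ideal.mem_bot]
  refine Twist.ext ?_ ?_
  · rw [map_mul, hx, zero_mul, map_zero]
  · rw [Twist.snd_mul, hx, hy, zero_smul, zero_smul, add_zero]
    rfl

end Groth.Agent.FSRelLib
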